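/-
Generated tables: the 57 points of the projective plane of order 7 and six permutations of points and lines.
Main definitions: `ptTab`, `pidTab`, `genTab`, `tvWords`.
-/
import Mathlib

set_option autoImplicit false

namespace Cfsg.Agent.ONL37

/-- Representing vectors, 16 bits each. -/
def ptTab : ℕ := 0x151012000ef00be008d005c002b014a011900e800b70086005500240143011200e100b0007f004e001d013c010b00da00a90078004700160135010400d300a200710040000f012e00fd00cc009b006a00390008012700f600c50094006300320001012d00fc00cb009a0069003800070031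

/-- The point of a vector, 8 bits each. -/
def pidTab : ℕ := 0x10283018203802171322263531051e2f1434192a06251a37112e23032c36291f121c0433211b2d271507090c0d0a0b0e0011252e1a233703181020283830021f2c12361c2904261735133122052d332721151b07341e192f2a14060a090b0c0e0d0012292c1c1f360419141e2a342f0620301038182802271b33152d21072e372523111a03352217312613050b0d090e0a0c00132631172235051a112325372e03212d15331b2707281838103020022f342a1e141906361f1c2c2912040c0a0e090d0b00142a2f191e34061b152127332d0722311335172605291c36122c1f043038282010180237231a2e2511030d0e0c0b090a0015272d1b2133071c121f29362c04232e11371a25032a1934142f1e0631352622131705382018302810020e0b0a0d0c09000f242b161d3201160f1d24322b011d2b0f321624012416320f2b1d012b32241d0f1601321d162b240f0108080808080800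

/-- The six generators, 8 bits for each of the 114 points and lines. -/
def genTab : List ℕ := [
  0x3837363534333231302f2e2d2c2b2a292827262524232221201f1e1d1c1b1a191817161514131211100f0e0d0c0b0a0908070605040302010071706f6e6d6c6b6a696867666564636261605f5e5d5c5b5a595857565554535251504f4e4d4c4b4a494847464544434241403f3e3d3c3b3a39,
  0x22201e23211f1d373533383634321b19171c1a1816302e2c312f2d2b1412101513110f2927252a2826240d0b090e0c0a080407030602050100676a6669656864595c585b575a564b4e4a4d494c486e716d706c6f6b60635f625e615d5255515450534f444743464245413f3d3b403e3c3a39,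
  0x383300323437351502262e1e160d011a280c2f13210e222410192d031c12291f08042c310a251b06200f232b270514091807110b171d302a36716c396b6d706e4e3b5f67574f463a536145684c5a475b5d4952663c554b6258413d656a435e543f59485c64603e4d4251404a44505669636f,
  0x15272d1b2133071c121f29362c04232e11371a25032a1934142f1e0631352622131705382018302810020e0b0a0d0c0900321d162b240f01084e6066545a6c40554b58626f653d5c674a70535e3c63526d4d68573f6a6e5f5b4c503e7159516961493b474443464542396b564f645d483a41,
  0x3837363534333220231f221e211d181a1c17191b16302e2c312f2d2b282529262a27241011121314150f02030405060701090a0b0c0d0e080071706f6e6d6c6b595c585b575a565153555052544f6967656a686664615e625f63605d494a4b4c4d4e483b3c3d3e3f403a4243444546474139,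
  0x38201830281002313526221317052a1934142f1e06232e11371a25031c121f29362c0415272d1b2133070e0b0a0d0c09000f242b161d3201087159516961493b6a6e5f5b4c503e63526d4d68573f5c674a70535e3c554b58626f653d4e6066545a6c4047444346454239485d644f566b3a41]

/-- Words of the elementary transvections, first letter first. -/
def tvWords : List ((Fin 3 × Fin 3) × List ℕ) := [
  ((0, 1), [1, 0, 2, 3, 2, 1, 4, 3, 2, 1, 3, 2, 1, 3, 4, 3, 2, 1, 3, 2, 4, 3, 2, 1]),
  ((0, 2), [0, 1, 0, 4, 3, 2, 3, 2, 1, 4, 3, 2, 1, 3, 2, 1, 3, 4, 3, 2, 1, 3, 2, 4, 3, 2, 1, 0, 3, 4]),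
  ((1, 0), [0, 1, 2, 3, 2, 1, 3, 4, 3, 2, 1, 3, 2, 1, 4, 3, 2, 1, 0, 3, 2, 4, 3, 2, 1, 0]),
  ((1, 2), [1, 0, 2, 3, 2, 1, 5, 4, 3, 2, 1, 3, 2, 1, 3, 4, 3, 2, 1, 3, 2, 4, 3, 2, 1, 5]),
  ((2, 0), [1, 0, 2, 4, 3, 2, 1, 5, 4, 3, 2, 1, 3, 2, 1, 3, 4, 3, 2, 1, 3, 2, 4, 3, 2, 1, 5, 4]),
  ((2, 1), [0, 1, 0, 3, 2, 3, 2, 1, 4, 3, 2, 1, 3, 2, 1, 3, 4, 3, 2, 1, 3, 2, 4, 3, 2, 1, 0, 3])]

end Cfsg.Agent.ONL37
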