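/-
The group presented by the relators of the presented O'Nan group that involve only a, …, f.
Main results: `qSetup`, `qSetup_card_le`, `toON`.
-/
import Cfsg.Agent.Lib.CosetEnum.BoundON

set_option autoImplicit false

namespace Cfsg.Agent.ONL37

open Cfsg.Agent.CosetEnum

/-- The six involutions. -/
inductive Gen
  | a
  | b
  | c
  | d
  | e
  | f
  deriving DecidableEq

/-- a -/ abbrev qa : FreeGroup Gen := FreeGroup.of Gen.a
/-- b -/ abbrev qb : FreeGroup Gen := FreeGroup.of Gen.b
/-- c -/ abbrev qc : FreeGroup Gen := FreeGroup.of Gen.c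
/-- d -/ abbrev qd : FreeGroup Gen := FreeGroup.of Gen.d
/-- e -/ abbrev qe : FreeGroup Gen := FreeGroup.of Gen.e
/-- f -/ abbrev qf : FreeGroup Gen := FreeGroup.of Gen.f

/-- The setup. -/
def qSetup : Setup Gen where
  edges := [(.a, 3, .b), (.b, 3, .c), (.c, 8, .d), (.d, 3, .e), (.e, 3, .f)]
  extra := [(qa * qf) * (((qc * qd) ^ 4)⁻¹)]
  gens := [.a, .b, .c, .d, .e, .f]
  pos := [0, 1, 2, 3, 4, 5]
  lt := [(.a, true), (.b, true), (.c, true), (.d, true), (.e, true), (.f, true)]

theorem qSetup_gens : ∀ x, x ∈ qSetup.gens := by intro x; cases x <;> simp [qSetup]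

/-- The letters. -/
def qLetters : Data := letterData 6 [0, 1, 2, 3, 4, 5]

theorem q_letters : qSetup.lettersOK qLetters = true := by decide +kernel

theorem q_bound4 :
    Nat.card (qSetup.letterGroup [3]) ≤ 2 ∧ Nat.card (qSetup.letterGroup [3]) ≠ 0 := by
  have h := Setup.card_step qSetup_gens q_letters on_lvl4 on_lvl4_check [3] (by decide +kernel) [] []
    [] (by decide +kernel) (by decide +kernel) (by simp) (by
    intro w hw
    simp at hw
    ) (Setup.bound_nil qSetup)
  exact h

theorem q_bound3 :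
    Nat.card (qSetup.letterGroup [3, 4]) ≤ 6 ∧ Nat.card (qSetup.letterGroup [3, 4]) ≠ 0 := by
  have h := Setup.card_step qSetup_gens q_letters on_lvl3 on_lvl3_check [3, 4] (by decide +kernel) [qd] []
    [] (by decide +kernel) (by decide +kernel) (by simp) (by
    intro w hw
    simp at hw
    ) (Setup.bound_closure qSetup_gens q_letters q_bound4 (by decide +kernel))
  exact h

theorem q_bound2 :
    Nat.card (qSetup.letterGroup [3, 4, 5]) ≤ 24 ∧ Nat.card (qSetup.letterGroup [3, 4, 5]) ≠ 0 := by
  have h := Setup.card_step qSetup_gens q_letters on_lvl2 on_lvl2_check [3, 4, 5] (by decide +kernel) [qd, qe] []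
    [] (by decide +kernel) (by decide +kernel) (by simp) (by
    intro w hw
    simp at hw
    ) (Setup.bound_closure qSetup_gens q_letters q_bound3 (by decide +kernel))
  exact h

theorem q_bound1 :
    Nat.card (qSetup.letterGroup [0, 1, 3, 4, 5]) ≤ 144 ∧ Nat.card (qSetup.letterGroup [0, 1, 3, 4, 5]) ≠ 0 := by
  have h := Setup.card_step qSetup_gens q_letters on_lvl1 on_lvl1_check [0, 1, 3, 4, 5] (by decide +kernel) [qd, qe, qf] []
    [] (by decide +kernel) (by decide +kernel) (by simp) (by
    intro w hw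
    simp at hw
    ) (Setup.bound_closure qSetup_gens q_letters q_bound2 (by decide +kernel))
  exact h

theorem q_bound0 :
    Nat.card (qSetup.letterGroup [0, 1, 2, 3, 4, 5]) ≤ 3753792 ∧ Nat.card (qSetup.letterGroup [0, 1, 2, 3, 4, 5]) ≠ 0 := by
  have h := Setup.card_step qSetup_gens q_letters on_lvl0 on_lvl0_check [0, 1, 2, 3, 4, 5] (by decide +kernel) [qa, qb, qd, qe, qf] []
    [] (by decide +kernel) (by decide +kernel) (by simp) (by
    intro w hw
    simp at hw
    ) (Setup.bound_closure qSetup_gens q_letters q_bound1 (by decide +kernel))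
  exact h

theorem qSetup_card_le : Nat.card qSetup.G ≤ 3753792 ∧ Nat.card qSetup.G ≠ 0 :=
  Setup.bound_univ qSetup_gens q_letters q_bound0 (by decide +kernel)

end Cfsg.Agent.ONL37
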