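/-
PSL(3, 7) acting on the 57 points and 57 lines of the projective plane.
Main results: `both`, `both_ker`, `projBoth`, `projBoth_injective`, `both_tv_mem`.
-/
import Cfsg.Agent.Lib.ONL37.Data
import Cfsg.Agent.Lib.CosetEnum.Pack
import Cfsg.Agent.Lib.Linear.SLn

set_option autoImplicit false

namespace Cfsg.Agent.ONL37

open Matrix
open Cfsg.Agent.CosetEnum (lane)

local instance : Fact (Nat.Prime 7) := ⟨by norm_num⟩

/-- The field. -/
abbrev F7 : Type := ZMod 7

/-- A vector from its coordinates. -/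
def mk3 (a b c : F7) : Fin 3 → F7 := ![a, b, c]

/-- Number of a vector. -/
def enc (v : Fin 3 → F7) : ℕ := (v 0).val + 7 * (v 1).val + 49 * (v 2).val

/-- Representing vector. -/
noncomputable def pt (j : ℕ) : Fin 3 → F7 :=
  mk3 ((lane 16 ptTab j % 7 : ℕ) : F7) ((lane 16 ptTab j / 7 % 7 : ℕ) : F7) ((lane 16 ptTab j / 49 % 7 : ℕ) : F7)

/-- The point spanned by a vector. -/
noncomputable def pid (v : Fin 3 → F7) : ℕ := lane 8 pidTab (enc v)

theorem exists_mk3 (v : Fin 3 → F7) : ∃ a b c, v = mk3 a b c :=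
  ⟨v 0, v 1, v 2, by funext i; fin_cases i <;> rfl⟩

theorem pid_spec : ∀ a b c : F7, pid (mk3 a b c) < 57 ∧
    ((a = 0 ∧ b = 0 ∧ c = 0) ∨ ∃ s : F7, s ≠ 0 ∧
      a = s * pt (pid (mk3 a b c)) 0 ∧ b = s * pt (pid (mk3 a b c)) 1 ∧ c = s * pt (pid (mk3 a b c)) 2) := by
  decide +kernel

theorem pid_scale : ∀ a b c s : F7, s ≠ 0 → pid (mk3 (s * a) (s * b) (s * c)) = pid (mk3 a b c) := by
  decide +kernel

theorem pid_pt : ∀ j : Fin 57, pid (pt j) = j ∧ enc (pt j) ≠ 0 := by
  decide +kernel

theorem pt_ne_zero (j : Fin 57) : pt j ≠ 0 := by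
  intro h
  refine (pid_pt j).2 ?_
  rw [h]
  rfl

theorem smul_mk3 (s a b c : F7) : s • mk3 a b c = mk3 (s * a) (s * b) (s * c) := by
  funext i; fin_cases i <;> rfl

theorem pid_lt (v : Fin 3 → F7) : pid v < 57 := by
  obtain ⟨a, b, c, rfl⟩ := exists_mk3 v
  exact (pid_spec a b c).1

theorem exists_smul_pt {v : Fin 3 → F7} (hv : v ≠ 0) : ∃ s : F7, s ≠ 0 ∧ v = s • pt (pid v) := by
  obtain ⟨a, b, c, rfl⟩ := exists_mk3 v
  rcases (pid_spec a b c).2 with ⟨rfl, rfl, rfl⟩ | ⟨s, hs, ha, hb, hc⟩
  · exact absurd (by funext i; fin_cases i <;> rfl) hv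
  · refine ⟨s, hs, ?_⟩
    funext i; fin_cases i
    · exact ha
    · exact hb
    · exact hc

theorem pid_smul {s : F7} (hs : s ≠ 0) (v : Fin 3 → F7) : pid (s • v) = pid v := by
  obtain ⟨a, b, c, rfl⟩ := exists_mk3 v
  rw [smul_mk3]
  exact pid_scale a b c s hs

/-- The point map of a matrix. -/
noncomputable def pmap (A : Matrix (Fin 3) (Fin 3) F7) (j : Fin 57) : Fin 57 := ⟨pid (A *ᵥ pt j), pid_lt _⟩

theorem mulVec_ne_zero (g : GL (Fin 3) F7) {v : Fin 3 → F7} (hv : v ≠ 0) :
    (g : Matrix (Fin 3) (Fin 3) F7) *ᵥ v ≠ 0 := by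
  intro h
  apply hv
  have := congrArg (fun w => ((g⁻¹ : GL (Fin 3) F7) : Matrix (Fin 3) (Fin 3) F7) *ᵥ w) h
  simpa [Matrix.mulVec_mulVec, ← Units.val_mul] using this

theorem pmap_mul (g h : GL (Fin 3) F7) (j : Fin 57) :
    pmap ((g * h : GL (Fin 3) F7) : Matrix (Fin 3) (Fin 3) F7) j =
      pmap (g : Matrix (Fin 3) (Fin 3) F7) (pmap (h : Matrix (Fin 3) (Fin 3) F7) j) := by
  obtain ⟨s, hs, e⟩ := exists_smul_pt (mulVec_ne_zero h (pt_ne_zero j))
  refine Fin.ext ?_
  show pid _ = pid ((g : Matrix (Fin 3) (Fin 3) F7) *ᵥ pt (pid _))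
  rw [Units.val_mul, ← Matrix.mulVec_mulVec]
  conv_lhs => rw [e, Matrix.mulVec_smul, pid_smul hs]

theorem pmap_one (j : Fin 57) : pmap (1 : Matrix (Fin 3) (Fin 3) F7) j = j :=
  Fin.ext (by show pid _ = _; rw [Matrix.one_mulVec]; exact (pid_pt j).1)

/-- The action on the points. -/
noncomputable def pperm : GL (Fin 3) F7 →* Equiv.Perm (Fin 57) where
  toFun g :=
    { toFun := pmap (g : Matrix (Fin 3) (Fin 3) F7)
      invFun := pmap ((g⁻¹ : GL (Fin 3) F7) : Matrix (Fin 3) (Fin 3) F7)
      left_inv := fun j => by rw [← pmap_mul, inv_mul_cancel, Units.val_one, pmap_one]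
      right_inv := fun j => by rw [← pmap_mul, mul_inv_cancel, Units.val_one, pmap_one] }
  map_one' := Equiv.ext fun j => pmap_one j
  map_mul' g h := Equiv.ext fun j => pmap_mul g h j

/-- Inverse transpose. -/
noncomputable def tinv : GL (Fin 3) F7 →* GL (Fin 3) F7 where
  toFun g :=
    { val := ((g⁻¹ : GL (Fin 3) F7) : Matrix (Fin 3) (Fin 3) F7)ᵀ
      inv := (g : Matrix (Fin 3) (Fin 3) F7)ᵀ
      val_inv := by rw [← Matrix.transpose_mul, ← Units.val_mul, mul_inv_cancel, Units.val_one, Matrix.transpose_one]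
      inv_val := by rw [← Matrix.transpose_mul, ← Units.val_mul, inv_mul_cancel, Units.val_one, Matrix.transpose_one] }
  map_one' := Units.ext (by simp)
  map_mul' g h := Units.ext (by
    show (((g * h)⁻¹ : GL (Fin 3) F7) : Matrix (Fin 3) (Fin 3) F7)ᵀ = _ * _
    rw [_root_.mul_inv_rev, Units.val_mul, Matrix.transpose_mul])

/-- Points, then lines. -/
def e114 : Fin 57 ⊕ Fin 57 ≃ Fin 114 := finSumFinEquiv

theorem e114_left (j : Fin 57) : ((e114 (Sum.inl j)) : ℕ) = j := rfl

theorem e114_right (j : Fin 57) : ((e114 (Sum.inr j)) : ℕ) = 57 + j := rfl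

/-- The special linear group on points and lines. -/
noncomputable def both : SpecialLinearGroup (Fin 3) F7 →* Equiv.Perm (Fin 114) :=
  (e114.permCongrHom.toMonoidHom).comp
    ((Equiv.Perm.sumCongrHom (Fin 57) (Fin 57)).comp
      ((pperm.comp SpecialLinearGroup.toGL).prod ((pperm.comp tinv).comp SpecialLinearGroup.toGL)))

theorem both_left (g : SpecialLinearGroup (Fin 3) F7) (j : Fin 57) :
    ((both g (e114 (Sum.inl j))) : ℕ) = pid ((g : Matrix (Fin 3) (Fin 3) F7) *ᵥ pt j) := by
  simp [both, pperm, pmap, e114_left]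

theorem both_right (g : SpecialLinearGroup (Fin 3) F7) (j : Fin 57) :
    ((both g (e114 (Sum.inr j))) : ℕ) =
      57 + pid ((((SpecialLinearGroup.toGL g)⁻¹ : GL (Fin 3) F7) : Matrix (Fin 3) (Fin 3) F7)ᵀ *ᵥ pt j) := by
  simp only [both, MonoidHom.comp_apply, MonoidHom.prod_apply, Equiv.Perm.sumCongrHom_apply, MulEquiv.toMonoidHom_eq_coe, MonoidHom.coe_coe]
  simp [pperm, pmap, tinv, e114_right, -Matrix.coe_units_inv, -map_inv]

theorem both_ker : MonoidHom.ker both = Subgroup.center (SpecialLinearGroup (Fin 3) F7) := by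
  ext g
  rw [MonoidHom.mem_ker, Matrix.SpecialLinearGroup.mem_center_iff]
  constructor
  · intro hg
    have hfix : ∀ v : Fin 3 → F7, v ≠ 0 → ∃ s : F7, (g : Matrix (Fin 3) (Fin 3) F7) *ᵥ v = s • v := by
      intro v hv
      obtain ⟨s, hs, e⟩ := exists_smul_pt hv
      obtain ⟨s', -, e'⟩ := exists_smul_pt (mulVec_ne_zero (SpecialLinearGroup.toGL g) hv)
      have h : pid ((g : Matrix (Fin 3) (Fin 3) F7) *ᵥ v) = pid v := by
        have h := both_left g ⟨pid v, pid_lt v⟩
        rw [hg] at h
        have h1 : (g : Matrix (Fin 3) (Fin 3) F7) *ᵥ v = s • ((g : Matrix (Fin 3) (Fin 3) F7) *ᵥ pt (pid v)) := by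
          conv_lhs => rw [e, Matrix.mulVec_smul]
        rw [h1, pid_smul hs]
        refine h.symm.trans ?_
        simp [e114_left]
      change (g : Matrix (Fin 3) (Fin 3) F7) *ᵥ v = s' • pt (pid ((g : Matrix (Fin 3) (Fin 3) F7) *ᵥ v)) at e'
      rw [h] at e'
      refine ⟨s' * s⁻¹, ?_⟩
      rw [e']
      conv_rhs => rw [e, smul_smul, mul_assoc, inv_mul_cancel₀ hs, mul_one]
    have hcol : ∀ i, ∃ s : F7, ∀ k, (g : Matrix (Fin 3) (Fin 3) F7) k i = s * (if k = i then 1 else 0) := by
      intro i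
      obtain ⟨s, hs⟩ := hfix (Pi.single i 1) (by simp)
      refine ⟨s, fun k => ?_⟩
      have := congrFun hs k
      rw [Matrix.mulVec_single_one] at this
      simpa [Pi.single_apply] using this
    choose d hd using hcol
    have hdiag : (g : Matrix (Fin 3) (Fin 3) F7) = Matrix.diagonal d := by
      ext k i
      rw [hd i k]
      by_cases hki : k = i
      · subst hki; simp
      · simp [hki]
    have hall : ∀ i k, d i = d k := by
      intro i k
      by_cases hik : i = k
      · rw [hik]
      obtain ⟨s, hs⟩ := hfix (Pi.single i 1 + Pi.single k 1) (fun h => by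
        have := congrFun h i; simp [hik] at this)
      rw [hdiag] at hs
      have h1 := congrFun hs i
      have h2 := congrFun hs k
      simp [Matrix.mulVec_diagonal, hik, Ne.symm hik] at h1 h2
      rw [h1, h2]
    refine ⟨d 0, ?_, ?_⟩
    · have hdet := g.2
      rw [hdiag, Matrix.det_diagonal] at hdet
      rw [Fintype.card_fin]
      have he : ∀ i, d i = d 0 := fun i => hall i 0
      simpa [he, Fin.prod_univ_three, pow_succ, pow_zero] using hdet
    · rw [hdiag]
      exact congrArg Matrix.diagonal (funext fun i => (hall i 0).symm ▸ rfl)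
  · rintro ⟨r, hr, hg⟩
    have hr0 : r ≠ 0 := by rintro rfl; simp at hr
    have hginv : (((SpecialLinearGroup.toGL g)⁻¹ : GL (Fin 3) F7) : Matrix (Fin 3) (Fin 3) F7) =
        Matrix.scalar (Fin 3) r⁻¹ := by
      have h1 := (SpecialLinearGroup.toGL g).inv_mul
      have h0 : ((SpecialLinearGroup.toGL g : GL (Fin 3) F7) : Matrix (Fin 3) (Fin 3) F7) = Matrix.scalar (Fin 3) r :=
        hg.symm
      rw [h0] at h1
      calc _ = (((SpecialLinearGroup.toGL g)⁻¹ : GL (Fin 3) F7) : Matrix (Fin 3) (Fin 3) F7) *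
              (Matrix.scalar (Fin 3) r * Matrix.scalar (Fin 3) r⁻¹) := by
            rw [← map_mul, mul_inv_cancel₀ hr0, map_one, mul_one]
        _ = Matrix.scalar (Fin 3) r⁻¹ := by rw [← mul_assoc, h1, one_mul]
    refine Equiv.ext fun x => Fin.ext ?_
    obtain ⟨x, rfl⟩ := e114.surjective x
    rcases x with j | j
    · rw [both_left, ← hg]
      show pid _ = _
      simp [e114_left, Matrix.scalar_apply, Matrix.diagonal_const_mulVec, pid_smul hr0, (pid_pt j).1]
    · rw [both_right, hginv]
      show 57 + pid _ = _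
      simp [e114_right, Matrix.scalar_apply, Matrix.diagonal_const_mulVec, pid_smul (inv_ne_zero hr0), (pid_pt j).1]

/-- The projective special linear group on points and lines. -/
noncomputable def projBoth : ProjectiveSpecialLinearGroup (Fin 3) F7 →* Equiv.Perm (Fin 114) :=
  QuotientGroup.lift (Subgroup.center (SpecialLinearGroup (Fin 3) F7)) both (le_of_eq both_ker.symm)

theorem projBoth_injective : Function.Injective projBoth := by
  rw [injective_iff_map_eq_one]
  intro x hx
  induction x using QuotientGroup.induction_on with | H g => ?_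
  rw [QuotientGroup.eq_one_iff, ← both_ker]
  exact hx

theorem both_range : projBoth.range = both.range := by
  ext π
  constructor
  · rintro ⟨x, rfl⟩
    induction x using QuotientGroup.induction_on with | H g => ?_
    exact ⟨g, rfl⟩
  · rintro ⟨g, rfl⟩
    exact ⟨QuotientGroup.mk g, rfl⟩

/-- A subgroup containing the six unit transvections contains the image. -/
theorem range_le (R : Subgroup (Equiv.Perm (Fin 114)))
    (h : ∀ i j : Fin 3, ∀ hij : i ≠ j, both (SpecialLinearGroup.transvection hij (1 : F7)) ∈ R) :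
    both.range ≤ R := by
  have hall : ∀ i j : Fin 3, ∀ hij : i ≠ j, ∀ c : F7, both (SpecialLinearGroup.transvection hij c) ∈ R := by
    intro i j hij c
    have key : ∀ m : ℕ, both (SpecialLinearGroup.transvection hij (m : F7)) ∈ R := by
      intro m
      induction m with
      | zero =>
        have : SpecialLinearGroup.transvection hij ((0 : ℕ) : F7) = 1 := Subtype.ext (by simp)
        rw [this, map_one]
        exact one_mem R
      | succ m ih =>
        have : SpecialLinearGroup.transvection hij ((m + 1 : ℕ) : F7) =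
            SpecialLinearGroup.transvection hij (m : F7) * SpecialLinearGroup.transvection hij 1 :=
          Subtype.ext (by
            show Matrix.transvection i j _ = Matrix.transvection i j _ * Matrix.transvection i j _
            rw [Matrix.transvection_mul_transvection_same i j hij, Nat.cast_succ])
        rw [this, map_mul]
        exact mul_mem ih (h i j hij)
    have := key c.val
    rwa [ZMod.natCast_zmod_val] at this
  rintro _ ⟨g, rfl⟩
  have hg : g ∈ Subgroup.closure (Linear.slTvSet (Fin 3) F7) := by rw [Linear.closure_slTvSet]; trivial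
  induction hg using Subgroup.closure_induction with
  | mem x hx => obtain ⟨i, j, hij, c, rfl⟩ := hx; exact hall i j hij c
  | one => rw [map_one]; exact one_mem R
  | mul x y _ _ hx hy => rw [map_mul]; exact mul_mem hx hy
  | inv x _ hx => rw [map_inv]; exact inv_mem hx

end Cfsg.Agent.ONL37
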