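/-
The six generators as permutations of the points and lines.
Main results: `gperm`, `gperm_rels`, `both_tv_mem`, `not_mem_both`.
-/
import Cfsg.Agent.Lib.ONL37.Plane
import Cfsg.Agent.Lib.ONL37.Group

set_option autoImplicit false

namespace Cfsg.Agent.ONL37

open Matrix
open Cfsg.Agent.CosetEnum (lane)

local instance : Fact (Nat.Prime 7) := ⟨by norm_num⟩

/-- The table of a generator. -/
noncomputable def gfun (k j : ℕ) : ℕ := lane 8 (genTab.getD k 0) j

theorem gfun_spec : ∀ k : Fin 6, ∀ j : Fin 114, gfun k j < 114 ∧ gfun k (gfun k j) = j := by decide +kernel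

/-- A generator as a permutation. -/
noncomputable def gperm (k : Fin 6) : Equiv.Perm (Fin 114) where
  toFun j := ⟨gfun k j, (gfun_spec k j).1⟩
  invFun j := ⟨gfun k j, (gfun_spec k j).1⟩
  left_inv j := Fin.ext (gfun_spec k j).2
  right_inv j := Fin.ext (gfun_spec k j).2

/-- The letter of a generator. -/
def num : Gen → Fin 6
  | .a => 0
  | .b => 1
  | .c => 2
  | .d => 3
  | .e => 4
  | .f => 5

/-- Apply letters, first letter first. -/
noncomputable def wapp : List ℕ → ℕ → ℕ
  | [], j => j
  | k :: v, j => wapp v (gfun k j)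

/-- The product of a word. -/
noncomputable def wperm : List (Fin 6) → Equiv.Perm (Fin 114)
  | [] => 1
  | k :: v => wperm v * gperm k

theorem wperm_apply : ∀ (w : List (Fin 6)) (j : Fin 114), (wperm w j : ℕ) = wapp (w.map Fin.val) j
  | [], _ => rfl
  | k :: v, j => by
    show ((wperm v) (gperm k j) : ℕ) = _
    rw [wperm_apply v]
    rfl

/-- The relator words of the group, as letters. -/
noncomputable def relWords : List (List ℕ) := qSetup.allRels.map (qSetup.wl qLetters)

theorem relWords_ok : (relWords.all fun w => w.all (fun k => Nat.blt k 6) &&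
    (List.range 114).all fun j => Nat.beq (wapp w j) j) = true := by decide +kernel

theorem tv_ok : (tvWords.all fun p => p.2.all (fun k => Nat.blt k 6)) = true := by decide +kernel

theorem tv_all : ∀ i j : Fin 3, i ≠ j → ∃ p ∈ tvWords, p.1 = (i, j) := by decide +kernel

theorem tv_left : ∀ p ∈ tvWords, ∀ x : Fin 57,
    wapp p.2 x = pid ((Matrix.transvection p.1.1 p.1.2 (1 : F7)) *ᵥ pt x) := by
  decide +kernel

theorem tv_right : ∀ p ∈ tvWords, ∀ x : Fin 57,
    wapp p.2 (57 + x) = 57 + pid ((Matrix.transvection p.1.1 p.1.2 (-1 : F7))ᵀ *ᵥ pt x) := by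
  decide +kernel

theorem both_tv_mem {i j : Fin 3} (hij : i ≠ j) :
    both (SpecialLinearGroup.transvection hij (1 : F7)) ∈ Subgroup.closure (Set.range gperm) := by
  obtain ⟨p, hp, hpij⟩ := tv_all i j hij
  have hk := List.all_eq_true.mp tv_ok p hp
  simp only [List.all_eq_true, Nat.blt_eq] at hk
  set w : List (Fin 6) := p.2.pmap (fun k hk => ⟨k, hk⟩) hk with hw
  have hval : (w.map Fin.val) = p.2 := by rw [hw, List.map_pmap, List.pmap_eq_map, List.map_id']
  have hmem : ∀ v : List (Fin 6), wperm v ∈ Subgroup.closure (Set.range gperm) := by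
    intro v
    induction v with
    | nil => exact one_mem _
    | cons k v ih => exact mul_mem ih (Subgroup.subset_closure ⟨k, rfl⟩)
  suffices both (SpecialLinearGroup.transvection hij (1 : F7)) = wperm w by rw [this]; exact hmem w
  have hinv : (((SpecialLinearGroup.toGL (SpecialLinearGroup.transvection hij (1 : F7)))⁻¹ : GL (Fin 3) F7) :
      Matrix (Fin 3) (Fin 3) F7) = Matrix.transvection i j (-1) := by
    have h : SpecialLinearGroup.transvection hij (1 : F7) * SpecialLinearGroup.transvection hij (-1 : F7) = 1 :=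
      Subtype.ext (show Matrix.transvection i j (1 : F7) * Matrix.transvection i j (-1) = 1 by
        rw [Matrix.transvection_mul_transvection_same i j hij, add_neg_cancel, Matrix.transvection_zero])
    rw [← map_inv, inv_eq_of_mul_eq_one_right h]
    rfl
  refine Equiv.ext fun x => Fin.ext ?_
  obtain ⟨x, rfl⟩ := e114.surjective x
  rw [wperm_apply, hval]
  rcases x with x | x
  · rw [both_left, e114_left, tv_left p hp x, hpij]
    rfl
  · rw [both_right, e114_right, tv_right p hp x, hpij, hinv]

theorem swaps : (List.range 6).all (fun k => Nat.ble 57 (gfun k 0)) = true := by decide +kernel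

theorem not_mem_both : gperm 0 ∉ both.range := by
  rintro ⟨g, hg⟩
  have h1 := both_left g 0
  rw [hg] at h1
  have h2 := List.all_eq_true.mp swaps 0 (List.mem_range.mpr (by norm_num))
  simp only [Nat.ble_eq] at h2
  have h3 : ((gperm 0 (e114 (Sum.inl 0))) : ℕ) = gfun 0 0 := rfl
  have := pid_lt ((g : Matrix (Fin 3) (Fin 3) F7) *ᵥ pt ((0 : Fin 57) : ℕ))
  omega

end Cfsg.Agent.ONL37
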