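/-
The subgroup ⟨a, …, f⟩ of the presented O'Nan group has a subgroup of index two isomorphic to PSL(3, 7).
Main results: `psi`, `psi_injective`, `equivH`, `exists_psl_index_two`.
-/
import Cfsg.Agent.S1699
import Cfsg.Agent.Lib.ONL37.Perms
import Cfsg.Agent.Lib.GLOrder.Basic

set_option autoImplicit false

namespace Cfsg.Agent.ONL37

open Cfsg.Agent.CosetEnum

local instance : Fact (Nat.Prime 7) := ⟨by norm_num⟩

theorem wperm_eq_ev (el : ℕ → Equiv.Perm (Fin 114)) (h : ∀ k : Fin 6, el k = gperm k) :
    ∀ w : List (Fin 6), Data.ev el (w.map Fin.val) = wperm w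
  | [] => rfl
  | k :: v => by
    show Data.ev el (v.map Fin.val) * el k = _
    rw [wperm_eq_ev el h v, h]
    rfl

theorem gperm_rels : ∀ r ∈ qSetup.rels, FreeGroup.lift (fun x => gperm (num x)) r = 1 := by
  intro r hr
  set el : ℕ → Equiv.Perm (Fin 114) := fun k => if hk : k < 6 then gperm ⟨k, hk⟩ else 1 with hel
  have h1 : ∀ x, el (qSetup.sg x) = gperm (num x) := by
    intro x; cases x <;> rfl
  have h2 : ∀ x, el (qLetters.invl (qSetup.sg x)) = (gperm (num x))⁻¹ := by
    intro x; cases x <;> rfl
  rw [Setup.lift_eq_ev (S := qSetup) (D := qLetters) (fun x => gperm (num x)) el h1 h2 r]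
  have hmem : qSetup.wl qLetters r ∈ relWords := List.mem_map.mpr ⟨r, Setup.mem_allRels _ hr, rfl⟩
  have h := List.all_eq_true.mp relWords_ok _ hmem
  simp only [Bool.and_eq_true, List.all_eq_true, Nat.blt_eq, List.mem_range, beq_iff] at h
  obtain ⟨hk, hfix⟩ := h
  set w : List (Fin 6) := (qSetup.wl qLetters r).pmap (fun k hk => ⟨k, hk⟩) hk with hw
  have hval : w.map Fin.val = qSetup.wl qLetters r := by
    rw [hw, List.map_pmap, List.pmap_eq_map, List.map_id']
  rw [← hval, wperm_eq_ev el (fun k => by simp [hel]) w]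
  refine Equiv.ext fun j => Fin.ext ?_
  rw [wperm_apply, hval]
  exact hfix j j.2

/-- The group on the six involutions acting on points and lines. -/
noncomputable def psi : qSetup.G →* Equiv.Perm (Fin 114) := PresentedGroup.toGroup gperm_rels

theorem closure_le_range : Subgroup.closure (Set.range gperm) ≤ psi.range := by
  rw [Subgroup.closure_le]
  rintro _ ⟨k, rfl⟩
  obtain ⟨x, rfl⟩ : ∃ x, num x = k := by
    fin_cases k
    exacts [⟨.a, rfl⟩, ⟨.b, rfl⟩, ⟨.c, rfl⟩, ⟨.d, rfl⟩, ⟨.e, rfl⟩, ⟨.f, rfl⟩]
  exact ⟨PresentedGroup.of x, PresentedGroup.toGroup.of gperm_rels⟩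

theorem projBoth_range_le : projBoth.range ≤ psi.range := by
  rw [both_range]
  exact (range_le _ fun i j hij => both_tv_mem hij).trans closure_le_range

theorem card_psl : Nat.card (Matrix.ProjectiveSpecialLinearGroup (Fin 3) F7) = 1876896 := by
  rw [GLOrder.card_PSL, GLOrder.card_SL, Nat.card_zmod, Fintype.card_fin]
  decide

theorem range_facts : projBoth.range.relIndex psi.range = 2 ∧ Function.Injective psi := by
  haveI : Finite qSetup.G := Nat.finite_of_card_ne_zero qSetup_card_le.2
  have hcard : Nat.card projBoth.range = 1876896 := by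
    rw [← Nat.card_congr (MonoidHom.ofInjective projBoth_injective).toEquiv, card_psl]
  have hmul : 1876896 * projBoth.range.relIndex psi.range = Nat.card psi.range := by
    rw [← hcard]
    simpa [Subgroup.relIndex_bot_left] using
      Subgroup.relIndex_mul_relIndex ⊥ projBoth.range psi.range bot_le projBoth_range_le
  have hne : projBoth.range.relIndex psi.range ≠ 1 := by
    rw [Ne, Subgroup.relIndex_eq_one]
    exact fun hle => not_mem_both (both_range ▸ hle (closure_le_range (Subgroup.subset_closure ⟨0, rfl⟩)))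
  have h1 : Nat.card psi.range ≤ Nat.card qSetup.G :=
    Nat.card_le_card_of_surjective _ psi.rangeRestrict_surjective
  have h0 : 0 < Nat.card psi.range := Nat.card_pos
  have hq := qSetup_card_le.1
  have h2 : projBoth.range.relIndex psi.range = 2 := by omega
  refine ⟨h2, ?_⟩
  have hb : Function.Bijective psi.rangeRestrict :=
    (Nat.bijective_iff_surjective_and_card _).mpr ⟨psi.rangeRestrict_surjective, by omega⟩
  exact fun x y hxy => hb.1 (Subtype.ext hxy)

theorem card_qG : Nat.card qSetup.G = 3753792 := by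
  obtain ⟨h2, hinj⟩ := range_facts
  rw [Nat.card_congr (MonoidHom.ofInjective hinj).toEquiv,
    ← Subgroup.card_mul_index (projBoth.range.subgroupOf psi.range),
    Nat.card_congr (Subgroup.subgroupOfEquivOfLe projBoth_range_le).toEquiv,
    ← Nat.card_congr (MonoidHom.ofInjective projBoth_injective).toEquiv, card_psl]
  rw [Subgroup.relIndex] at h2
  rw [h2]

/-- The image of a generator in the O'Nan group. -/
def img : Gen → onSetup.G
  | .a => PresentedGroup.mk onSetup.rels Cfsg.Spor.ON.a
  | .b => PresentedGroup.mk onSetup.rels Cfsg.Spor.ON.b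
  | .c => PresentedGroup.mk onSetup.rels Cfsg.Spor.ON.c
  | .d => PresentedGroup.mk onSetup.rels Cfsg.Spor.ON.d
  | .e => PresentedGroup.mk onSetup.rels Cfsg.Spor.ON.e
  | .f => PresentedGroup.mk onSetup.rels Cfsg.Spor.ON.f

theorem img_letters : ∀ x, onSetup.el (qSetup.sg x + 2) = img x := by
  intro x; cases x <;> rfl

theorem srcWords : (relWords.map fun w => w.map fun k => k + 2).all (fun w =>
    (onSetup.allRels.map (onSetup.wl onLetters)).contains w || Nat.beq w.length 0) = true := by decide +kernel

theorem img_rels : ∀ r ∈ qSetup.rels, FreeGroup.lift img r = 1 := by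
  intro r hr
  have h2 : ∀ x, onSetup.el (qLetters.invl (qSetup.sg x) + 2) = (img x)⁻¹ := by
    intro x
    have hinv : qLetters.invl (qSetup.sg x) = qSetup.sg x := by cases x <;> decide +kernel
    rw [hinv, img_letters]
    refine eq_inv_of_mul_eq_one_left ?_
    have := Setup.el_inv onSetup_gens on_letters (qSetup.sg x + 2) (by cases x <;> decide +kernel)
    rw [show onLetters.invl (qSetup.sg x + 2) = qSetup.sg x + 2 by cases x <;> decide +kernel, img_letters] at this
    exact this
  rw [Setup.lift_eq_ev (S := qSetup) (D := qLetters) img (fun k => onSetup.el (k + 2)) img_letters h2 r,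
    ← Setup.ev_map onSetup.el (fun k => k + 2)]
  have hmem : qSetup.wl qLetters r ∈ relWords := List.mem_map.mpr ⟨r, Setup.mem_allRels _ hr, rfl⟩
  have h := List.all_eq_true.mp srcWords _ (List.mem_map.mpr ⟨_, hmem, rfl⟩)
  simp only [Bool.or_eq_true, List.contains_iff_mem, List.mem_map, beq_iff] at h
  rcases h with ⟨s, hs, e⟩ | h
  · rw [← e, ← Setup.mk_eq_ev onSetup_gens on_letters]
    exact PresentedGroup.one_of_mem (Setup.allRels_mem _ hs)
  · rw [List.length_eq_zero_iff.mp h]
    rfl

/-- The map to the O'Nan group. -/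
noncomputable def toON : qSetup.G →* onSetup.G := PresentedGroup.toGroup img_rels

theorem toON_range : toON.range = onSetup.closureOf Cfsg.Agent.S1692.hgens := by
  have himg : ∀ x, toON (PresentedGroup.of x) = img x := fun x => PresentedGroup.toGroup.of img_rels
  refine le_antisymm ?_ ?_
  · rw [MonoidHom.range_eq_map, ← PresentedGroup.closure_range_of qSetup.rels, MonoidHom.map_closure,
      Subgroup.closure_le]
    rintro _ ⟨_, ⟨x, rfl⟩, rfl⟩
    rw [himg]
    cases x <;> exact Subgroup.subset_closure ⟨_, by simp [S1692.hgens], rfl⟩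
  · rw [Setup.closureOf, Subgroup.closure_le]
    rintro _ ⟨h, hh, rfl⟩
    simp only [S1692.hgens, List.mem_cons, List.not_mem_nil, or_false, Set.mem_ofPred_eq] at hh
    rcases hh with rfl | rfl | rfl | rfl | rfl | rfl
    exacts [⟨_, himg .a⟩, ⟨_, himg .b⟩, ⟨_, himg .c⟩, ⟨_, himg .d⟩, ⟨_, himg .e⟩, ⟨_, himg .f⟩]

theorem toON_injective : Function.Injective toON := by
  haveI : Finite qSetup.G := Nat.finite_of_card_ne_zero qSetup_card_le.2
  have hidx := Setup.Table.index S1692.table
  have hmul := Subgroup.index_mul_card (onSetup.closureOf S1692.hgens)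
  rw [hidx, S1699.main.2, show on122760.n = 122760 from rfl, ← toON_range] at hmul
  have hb : Function.Bijective toON.rangeRestrict :=
    (Nat.bijective_iff_surjective_and_card _).mpr ⟨toON.rangeRestrict_surjective, by rw [card_qG]; omega⟩
  exact fun x y hxy => hb.1 (Subtype.ext hxy)

/-- The six generators generate a copy of the abstract group. -/
noncomputable def equivH : qSetup.G ≃* onSetup.closureOf Cfsg.Agent.S1692.hgens :=
  (MonoidHom.ofInjective toON_injective).trans (MulEquiv.subgroupCongr toON_range)

theorem exists_psl_index_two : ∃ N : Subgroup (onSetup.closureOf Cfsg.Agent.S1692.hgens), N.Normal ∧ N.index = 2 ∧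
    Nonempty (N ≃* Matrix.ProjectiveSpecialLinearGroup (Fin 3) F7) := by
  obtain ⟨h2, hinj⟩ := range_facts
  set φ := psi.comp equivH.symm.toMonoidHom with hφ
  have hφinj : Function.Injective φ := hinj.comp equivH.symm.injective
  have hrange : φ.range = psi.range := by
    rw [hφ, MonoidHom.range_comp, MonoidHom.range_eq_top.mpr equivH.symm.surjective, ← MonoidHom.range_eq_map]
  have hle : projBoth.range ≤ φ.range := hrange ▸ projBoth_range_le
  have hidx : (projBoth.range.comap φ).index = 2 := by rw [Subgroup.index_comap, hrange, h2]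
  exact ⟨projBoth.range.comap φ, Subgroup.normal_of_index_eq_two hidx, hidx,
    ⟨((Subgroup.equivMapOfInjective _ φ hφinj).trans
      (MulEquiv.subgroupCongr (Subgroup.map_comap_eq_self hle))).trans
      (MonoidHom.ofInjective projBoth_injective).symm⟩⟩

end Cfsg.Agent.ONL37
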